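import Cfsg.Agent.SP.Mon.Iface
import Cfsg.Agent.SP.Mon.NL.Cent
import Cfsg.Agent.SP.Mon.NL.TwoA
import Cfsg.Agent.MonsterU.Transfer
import Cfsg.Agent.S5534
import Cfsg.Agent.S1704

/-! # S5755, the Monster: box `C2A`

`C(a) ∩ C(a') ≅ Th` for `a a'` of class `3C`; by descent a pair inside `C(a) = 2.B` contains all these subgroups. -/

set_option autoImplicit false
set_option maxRecDepth 100000
set_option linter.style.haveILetI false

namespace Cfsg.Agent.SP.Mon.C2A

open Subgroup Cfsg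
open Cfsg.Agent.MonsterX Cfsg.Agent.MonsterP Cfsg.Agent.LThreeMB
open Cfsg.Agent.H816.MSch Cfsg.Agent.H816.IMEig
open Cfsg.Agent.H816.M23.Tx Cfsg.Agent.H816.M23.Inst Cfsg.Agent.H816.M23.Main
open Cfsg.Agent.BpSpor.MBigModel (MG zz pi chart cls)
open Cfsg.Agent.LThreeB.Row (TA)

theorem isoTh_in {x : centralizer ({zz} : Set MG)} (hx : T3C (x : MG)) : Spor.IsoTh (XX (x : MG)) := by
  have := BpSpor.MBigModel.finite
  have := BpSpor.MBigModel.simple
  have I := CoOneFin.coOne
  have htr := KPair.trNe KDone.lft LThreeB.Row.cent (LThreeMBTr.traceNe KDone.lft LThreeMBTr.TensK.tens)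
  have hxo : orderOf x = 3 := by rw [← Subgroup.orderOf_coe, hx.1]
  rcases I.ranks (pi x) (orderOf_pi chart hxo) with h1 | h1 | h1 | h1
  · have h2 := H199.AbMon.three_zero' hxo h1
    rw [hx.2] at h2
    exact absurd h2 (by norm_num)
  · obtain ⟨x₀, u, g, hx₀, hfr₀, huz, hux, hne, hg⟩ :=
      KPair.hasPair KDone.lft LThreeB.Row.cent PreUniq.MonRow.second COct.octPair
    obtain ⟨k, hk⟩ := conj_six chart htr I.ranks I.six
      (fun x hx h2 => ⟨(good_of_inputs chart I hx h2 : Good.{0} _).simple, (good_of_inputs chart I hx h2 : Good.{0} _).nc⟩)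
      hx₀ hfr₀ huz hux hne hg hxo h1
    have h2 := H199.AbMon.three_zero' hx₀ hfr₀
    rw [BpSpor.card_cent_of_conj hk, hx.2] at h2
    exact absurd h2 (by norm_num)
  · exact LThreeB.isoTh_of_inputs chart I hxo h1
  · obtain ⟨e⟩ := LThreeB.isoFi_of_inputs chart I hxo h1
    have h2 := hx.2
    rw [H199.NSmMon.card_XX, hx.1, Nat.card_congr e.toEquiv, Cfsg.Agent.S1698.result.2] at h2
    exact absurd h2 (by norm_num)

/-- **The class `3C`**: `C(x) / ⟨x⟩` embeds in `Th`. -/
theorem exists_hom_th {x : MG} (hx : T3C x) : ∃ f : centralizer ({x} : Set MG) →* Spor.Th,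
    ∀ g, f g = 1 → (g : MG) ∈ zpowers x := by
  obtain ⟨g, hg⟩ := H199.NSmMon.ev_of_even hx.1 (by rw [hx.2]; decide)
  have h1 : (g⁻¹ * x * g) * zz = zz * (g⁻¹ * x * g) := by
    calc (g⁻¹ * x * g) * zz = g⁻¹ * (x * (g * zz * g⁻¹)) * g := by group
      _ = g⁻¹ * ((g * zz * g⁻¹) * x) * g := by rw [hg]
      _ = zz * (g⁻¹ * x * g) := by group
  obtain ⟨e⟩ := isoTh_in (x := ⟨_, mem_centralizer_singleton_iff.2 h1⟩)
    ⟨(orderOf_conj' g x).trans hx.1, (card_centralizer_conj g x).trans hx.2⟩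
  let κ : centralizer ({x} : Set MG) →* centralizer ({g⁻¹ * x * g} : Set MG) :=
    ((MulAut.conj g⁻¹).toMonoidHom.comp (Subgroup.subtype _)).codRestrict _ fun c => by
      rw [mem_centralizer_singleton_iff]
      show g⁻¹ * c * g⁻¹⁻¹ * (g⁻¹ * x * g) = g⁻¹ * x * g * (g⁻¹ * c * g⁻¹⁻¹)
      calc g⁻¹ * c * g⁻¹⁻¹ * (g⁻¹ * x * g) = g⁻¹ * (c * x) * g := by group
        _ = _ := by rw [mem_centralizer_singleton_iff.1 c.2]; group
  refine ⟨e.toMonoidHom.comp ((QuotientGroup.mk' (Zx (g⁻¹ * x * g))).comp κ), fun c hc => ?_⟩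
  have h2 : mk (g⁻¹ * x * g) (mem_centralizer_singleton_iff.1 (κ c).2) = 1 := (map_eq_one_iff e e.injective).1 hc
  obtain ⟨i, hi⟩ := (LThreeMB.mk_eq_one _).1 h2
  refine ⟨i, (MulAut.conj g⁻¹).injective ?_⟩
  rw [map_zpow, MulAut.conj_apply, inv_inv]
  exact hi

/-- the centraliser of two `2A`-involutions -/
noncomputable abbrev KK (x y : XT) : Subgroup MG := centralizer ({tX x} : Set MG) ⊓ centralizer ({tX y} : Set MG)

theorem card_KK {x y : XT} (h : c x y = 4) : Nat.card (KK x y) = 90745943887872000 := by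
  have h1 := card_st x y
  have h2 : MulAction.stabilizer MG ((x, y) : XT × XT) = KK x y := by
    ext g
    rw [MulAction.mem_stabilizer_iff, Prod.smul_mk, Prod.mk.injEq, fix_iff, fix_iff, mem_inf,
      mem_centralizer_singleton_iff, mem_centralizer_singleton_iff]
  rw [h, h2] at h1
  have h3 : Nat.card (KK x y) * (97239461142009186000 * 91569524834304000) =
    808017424794512875886459904961710757005754368000000000 := h1
  omega

theorem braid {G : Type*} [Group G] {a b : G} (ha : a * a = 1) (hb : b * b = 1) (h : (a * b) ^ 3 = 1) :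
    a * b * a * (a * b)⁻¹ = b := by
  rw [mul_inv_rev, inv_eq_of_mul_eq_one_left ha, inv_eq_of_mul_eq_one_left hb]
  calc a * b * a * (b * a) = (a * b) ^ 3 * b⁻¹ := by rw [pow_succ, pow_two]; group
    _ = b := by rw [h, one_mul, inv_eq_of_mul_eq_one_left hb]

theorem comm_KK {x y : XT} {g : MG} (hg : g ∈ KK x y) : Commute (tX x * tX y) g :=
  Commute.mul_left (mem_centralizer_singleton_iff.1 hg.1).symm (mem_centralizer_singleton_iff.1 hg.2).symm

theorem mem_KK {x y : XT} (h : c x y = 4) {g : MG} (h1 : g ∈ centralizer ({tX x} : Set MG))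
    (h2 : (tX x * tX y)⁻¹ * g * (tX x * tX y) ∈ centralizer ({tX x} : Set MG)) : g ∈ KK x y := by
  refine ⟨h1, mem_centralizer_singleton_iff.2 ?_⟩
  have h3 := mem_centralizer_singleton_iff.1 h2
  have h4 := braid (tX_sq x) (tX_sq y) (ax.four x y h)
  generalize tX x * tX y = s at h3 h4
  rw [← h4]
  calc g * (s * tX x * s⁻¹) = s * (s⁻¹ * g * s * tX x) * s⁻¹ := by group
    _ = _ := by rw [h3]; group

/-- `C(a) ∩ C(a') ≅ Th` -/
theorem iso_KK {x y : XT} (h : c x y = 4) : Nonempty (KK x y ≃* Spor.Th) := by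
  have := BpSpor.MBigModel.finite
  have : Fact (Nat.Prime 3) := ⟨Nat.prime_three⟩
  have ho : orderOf (tX x * tX y) = 3 := ord_eq (by rw [h]; decide) Nat.prime_three (ax.four x y h)
  obtain ⟨f, hf⟩ := exists_hom_th (x := tX x * tX y) ⟨ho, cent_four h⟩
  have hle : KK x y ≤ centralizer ({tX x * tX y} : Set MG) := fun g hg =>
    mem_centralizer_singleton_iff.2 (comm_KK hg).symm.eq
  refine ⟨MulEquiv.ofBijective (f.comp (inclusion hle)) ((Nat.bijective_iff_injective_and_card _).2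
    ⟨(injective_iff_map_eq_one _).2 fun g hg => ?_, by rw [card_KK h, Cfsg.Agent.S1700.result.2]⟩)⟩
  by_contra h1
  have h2 : zpowers (g : MG) = zpowers (tX x * tX y) := by
    refine eq_of_le_of_card_ge (zpowers_le.2 (hf _ hg)) ?_
    rw [Nat.card_zpowers, Nat.card_zpowers, ho]
    have h3 : orderOf (g : MG) ∣ 3 := ho ▸ orderOf_dvd_of_mem_zpowers (hf _ hg)
    rcases (Nat.dvd_prime Nat.prime_three).1 h3 with h4 | h4
    · exact absurd (Subtype.ext (orderOf_eq_one_iff.1 h4)) h1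
    · exact h4.ge
  have h3 : tX x * tX y ∈ KK x y := zpowers_le.2 g.2 (h2 ▸ mem_zpowers _)
  have h4 := braid (tX_sq x) (tX_sq y) (ax.four x y h)
  rw [mem_centralizer_singleton_iff.1 h3.1, mul_inv_cancel_right] at h4
  rw [h4, tX_sq, orderOf_one] at ho
  norm_num at ho

theorem exists_four (x : XT) : ∃ y, c x y = 4 := by
  have h1 : Nat.card {y // c x y = 4} = 91569524834304000 := kk x 4
  obtain ⟨y⟩ := (Nat.card_pos_iff.1 (by rw [h1]; norm_num : 0 < Nat.card {y // c x y = 4})).1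
  exact ⟨y.1, y.2⟩

theorem exists_x : ∃ x : MG, TA x ∧ IsNonsplitDoubleCover (centralizer ({x} : Set MG)) Spor.BabyMonster := by
  have hfin := BpSpor.MBigModel.finite
  obtain ⟨f⟩ := MonsterP.Equiv.equiv
  obtain ⟨x, hx, hc⟩ := MonsterU.Transfer.exists_cover f.symm S5534.result
  refine ⟨x, (cls hx).resolve_left ?_, hc⟩
  rintro ⟨g, hg⟩
  have h1 := BpSpor.card_cent_of_conj hg
  have h2 := card_eq_card_quotient_mul_card_subgroup (center ↥(centralizer ({x} : Set MG)))
  obtain ⟨h3, ⟨e⟩, -⟩ := hc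
  rw [h3, Nat.card_congr e.toEquiv, S1704.result.2, h1, BpSpor.MBigModel.card_cent_z] at h2
  norm_num at h2

theorem noPair (hTh : ¬ Pair Spor.Th) {x : XT}
    (hc : IsNonsplitDoubleCover (centralizer ({tX x} : Set MG)) Spor.BabyMonster) :
    NoPairIn (centralizer ({tX x} : Set MG)) := by
  intro A B hA h
  have := BpSpor.MBigModel.finite
  have := S1704.result.1
  obtain ⟨h2, ⟨e⟩, hns⟩ := hc
  obtain ⟨y, hy⟩ := exists_four x
  have hK : ∀ y, c x y = 4 → KK x y ≤ A := fun y hy =>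
    (h.descent hA inf_le_left (tX x * tX y) (fun g => mem_KK hy) fun k => comm_KK).resolve_right fun hp =>
      let ⟨f⟩ := iso_KK hy
      hTh (hp.of_equiv f)
  set C := centralizer ({tX x} : Set MG) with hC
  let π : C →* Spor.BabyMonster := e.toMonoidHom.comp (QuotientGroup.mk' _)
  have hπ : Function.Surjective π := e.surjective.comp (QuotientGroup.mk'_surjective _)
  have hker : π.ker = center C := by
    ext g
    show e (QuotientGroup.mk' _ g) = 1 ↔ _
    rw [map_eq_one_iff e e.injective, ← MonoidHom.mem_ker, QuotientGroup.ker_mk']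
  have hbot : ∀ L : Subgroup MG, L ≤ C → (L.subgroupOf C).map π = ⊥ → Nat.card L ≤ 2 := fun L hL k => by
    rw [← Nat.card_congr (subgroupOfEquivOfLe hL).toEquiv, ← h2, ← hker]
    exact card_le_of_le ((Subgroup.map_eq_bot_iff _).1 k)
  have hN : normalClosure ((KK x y).subgroupOf C : Set C) ≤ A.subgroupOf C := by
    refine (closure_le _).2 fun g hg => ?_
    obtain ⟨k, hk, hkg⟩ := Group.mem_conjugatesOfSet_iff.1 hg
    obtain ⟨u, rfl⟩ := isConj_iff.1 hkg
    have k1 : (u : MG) • x = x := (fix_iff _ _).2 (mem_centralizer_singleton_iff.1 u.2)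
    refine hK ((u : MG) • y) (by rw [← hy, ← c_inv (u : MG) x y, k1]) ⟨(u * k * u⁻¹).2, mem_centralizer_singleton_iff.2 ?_⟩
    show (u : MG) * k * (u : MG)⁻¹ * tX ((u : MG) • y) = tX ((u : MG) • y) * ((u : MG) * k * (u : MG)⁻¹)
    rw [tX_smul]
    calc (u : MG) * k * (u : MG)⁻¹ * (u * tX y * (u : MG)⁻¹) = u * (k * tX y) * (u : MG)⁻¹ := by group
      _ = _ := by rw [show (k : MG) * tX y = tX y * k from mem_centralizer_singleton_iff.1 hk.2]; group
  have hAt : (A.subgroupOf C).map π = ⊤ := by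
    rcases ((normalClosure_normal (s := ((KK x y).subgroupOf C : Set C))).map π hπ).eq_bot_or_eq_top with k | k
    · have k1 := hbot (KK x y) inf_le_left (eq_bot_iff.2 (k ▸ map_mono le_normalClosure))
      rw [card_KK hy] at k1
      norm_num at k1
    · exact eq_top_iff.2 (k ▸ map_mono hN)
  have hBn : ((B.subgroupOf C).map π).Normal := ⟨by
    rintro _ ⟨b, hb, rfl⟩ g
    obtain ⟨a, ha, rfl⟩ := hAt.ge (mem_top g)
    exact ⟨a * b * a⁻¹, h.conj_mem ha hb, by rw [map_mul, map_mul, map_inv]⟩⟩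
  rcases hBn.eq_bot_or_eq_top with k | k
  · have k1 := hbot B (h.le.trans hA) k
    have k2 := h.card_le (D := KK x y) (tX x * tX y) fun g hg hg' => mem_KK hy (hA hg) (hA hg')
    have k3 : Nat.card ((A.subgroupOf C).map π) ≤ Nat.card (A.subgroupOf C) :=
      Nat.le_of_dvd Nat.card_pos (card_map_dvd _ _)
    rw [hAt, card_top, S1704.result.2, Nat.card_congr (subgroupOfEquivOfLe hA).toEquiv] at k3
    rw [card_KK hy] at k2
    omega
  · have k1 : B.subgroupOf C ⊔ center C = ⊤ := by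
      rw [← hker, ← comap_map_eq, k, comap_top]
    have : Fact (Nat.Prime (Nat.card (center C))) := ⟨by rw [h2]; exact Nat.prime_two⟩
    rcases eq_bot_or_eq_top_of_prime_card ((B.subgroupOf C).subgroupOf (center C)) with k2 | k2
    · refine hns (B.subgroupOf C) (isComplement'_of_disjoint_and_mul_eq_univ ?_ ?_)
      · exact (subgroupOf_eq_bot.1 k2).symm
      · rw [← normal_mul, sup_comm, k1, coe_top]
    · rw [sup_eq_left.2 (subgroupOf_eq_top.1 k2), subgroupOf_eq_top] at k1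
      exact h.2.1.not_ge (hA.trans k1)

/-- **Box `C2A`.** -/
theorem boxC2A (hTh : ¬ Pair Spor.Th) : BoxC2A := by
  intro a ha
  obtain ⟨t, ht, hc⟩ := exists_x
  obtain ⟨g, hg⟩ := isConj_iff.1 ((show IsConj _ t from ht).symm.trans (show IsConj _ a from ha))
  obtain ⟨x, rfl⟩ := (ta_iff _).1 ht
  refine (noPair hTh hc).of_conj g fun u hu => mem_centralizer_singleton_iff.2 ?_
  have h1 := mem_centralizer_singleton_iff.1 hu
  rw [← hg] at h1
  calc g⁻¹ * u * g * tX x = g⁻¹ * (u * (g * tX x * g⁻¹)) * g := by group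
    _ = _ := by rw [h1]; group

end Cfsg.Agent.SP.Mon.C2A
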